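import Mathlib.CategoryTheory.Monoidal.NaturalTransformation
import Mathlib.CategoryTheory.Monoidal.Braided.Basic
import Mathlib.CategoryTheory.Groupoid

/-!
# The free Picard category on a symmetric monoidal groupoid

Objects are formal tensor words in objects of `A` and formal duals; morphisms are generated by the structure maps,
the morphisms of `A`, the comparison maps of the inclusion and evaluations, modulo the axioms.
-/

set_option autoImplicit false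
set_option linter.unusedVariables false

universe v' u' v u

open CategoryTheory MonoidalCategory

namespace Groth.Agent.Pic49

variable (A : Type u)

/-- Formal objects. -/
inductive Obj : Type u
  | inj (a : A) : Obj
  | one : Obj
  | ten (X Y : Obj) : Obj
  | dual (X : Obj) : Obj

variable {A} [Category.{v} A] [MonoidalCategory A] [SymmetricCategory A]

/-- Formal morphisms. -/
inductive Hom : Obj A → Obj A → Type (max u v)
  | id (X) : Hom X X
  | comp {X Y Z} (f : Hom X Y) (g : Hom Y Z) : Hom X Z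
  | inv {X Y} (f : Hom X Y) : Hom Y X
  | ten {X X' Y Y'} (f : Hom X X') (g : Hom Y Y') : Hom (.ten X Y) (.ten X' Y')
  | assoc (X Y Z) : Hom (.ten (.ten X Y) Z) (.ten X (.ten Y Z))
  | lam (X) : Hom (.ten .one X) X
  | rho (X) : Hom (.ten X .one) X
  | beta (X Y) : Hom (.ten X Y) (.ten Y X)
  | inj {a b : A} (f : a ⟶ b) : Hom (.inj a) (.inj b)
  | mu (a b : A) : Hom (.ten (.inj a) (.inj b)) (.inj (a ⊗ b))
  | eps : Hom .one (.inj (𝟙_ A))
  | ev (X) : Hom (.ten (.dual X) X) .one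

open Hom in
/-- The axioms. -/
inductive Rel : ∀ {X Y : Obj A}, Hom X Y → Hom X Y → Prop
  | refl {X Y} (f : Hom X Y) : Rel f f
  | symm {X Y} {f g : Hom X Y} : Rel f g → Rel g f
  | trans {X Y} {f g h : Hom X Y} : Rel f g → Rel g h → Rel f h
  | comp {X Y Z} {f f' : Hom X Y} {g g' : Hom Y Z} : Rel f f' → Rel g g' → Rel (comp f g) (comp f' g')
  | inv {X Y} {f f' : Hom X Y} : Rel f f' → Rel (inv f) (inv f')
  | ten {X X' Y Y'} {f f' : Hom X X'} {g g' : Hom Y Y'} : Rel f f' → Rel g g' → Rel (ten f g) (ten f' g')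
  | id_comp {X Y} (f : Hom X Y) : Rel (Hom.comp (Hom.id X) f) f
  | comp_id {X Y} (f : Hom X Y) : Rel (Hom.comp f (Hom.id Y)) f
  | assoc {X Y Z W} (f : Hom X Y) (g : Hom Y Z) (h : Hom Z W) :
      Rel (Hom.comp (Hom.comp f g) h) (Hom.comp f (Hom.comp g h))
  | comp_inv {X Y} (f : Hom X Y) : Rel (Hom.comp f (Hom.inv f)) (Hom.id X)
  | inv_comp {X Y} (f : Hom X Y) : Rel (Hom.comp (Hom.inv f) f) (Hom.id Y)
  | ten_id (X Y) : Rel (Hom.ten (Hom.id X) (Hom.id Y)) (Hom.id (Obj.ten X Y))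
  | ten_comp {X X' X'' Y Y' Y''} (f : Hom X X') (g : Hom Y Y') (f' : Hom X' X'') (g' : Hom Y' Y'') :
      Rel (Hom.comp (Hom.ten f g) (Hom.ten f' g')) (Hom.ten (Hom.comp f f') (Hom.comp g g'))
  | assoc_nat {X X' Y Y' Z Z'} (f : Hom X X') (g : Hom Y Y') (h : Hom Z Z') :
      Rel (Hom.comp (Hom.ten (Hom.ten f g) h) (Hom.assoc X' Y' Z'))
        (Hom.comp (Hom.assoc X Y Z) (Hom.ten f (Hom.ten g h)))
  | lam_nat {X Y} (f : Hom X Y) :
      Rel (Hom.comp (Hom.ten (Hom.id Obj.one) f) (Hom.lam Y)) (Hom.comp (Hom.lam X) f)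
  | rho_nat {X Y} (f : Hom X Y) :
      Rel (Hom.comp (Hom.ten f (Hom.id Obj.one)) (Hom.rho Y)) (Hom.comp (Hom.rho X) f)
  | beta_nat {X X' Y Y'} (f : Hom X X') (g : Hom Y Y') :
      Rel (Hom.comp (Hom.ten f g) (Hom.beta X' Y')) (Hom.comp (Hom.beta X Y) (Hom.ten g f))
  | pentagon (W X Y Z) :
      Rel (Hom.comp (Hom.ten (Hom.assoc W X Y) (Hom.id Z))
          (Hom.comp (Hom.assoc W (Obj.ten X Y) Z) (Hom.ten (Hom.id W) (Hom.assoc X Y Z))))
        (Hom.comp (Hom.assoc (Obj.ten W X) Y Z) (Hom.assoc W X (Obj.ten Y Z)))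
  | triangle (X Y) :
      Rel (Hom.comp (Hom.assoc X Obj.one Y) (Hom.ten (Hom.id X) (Hom.lam Y))) (Hom.ten (Hom.rho X) (Hom.id Y))
  | hexagon_forward (X Y Z) :
      Rel (Hom.comp (Hom.assoc X Y Z) (Hom.comp (Hom.beta X (Obj.ten Y Z)) (Hom.assoc Y Z X)))
        (Hom.comp (Hom.ten (Hom.beta X Y) (Hom.id Z))
          (Hom.comp (Hom.assoc Y X Z) (Hom.ten (Hom.id Y) (Hom.beta X Z))))
  | hexagon_reverse (X Y Z) :
      Rel (Hom.comp (Hom.inv (Hom.assoc X Y Z))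
          (Hom.comp (Hom.beta (Obj.ten X Y) Z) (Hom.inv (Hom.assoc Z X Y))))
        (Hom.comp (Hom.ten (Hom.id X) (Hom.beta Y Z))
          (Hom.comp (Hom.inv (Hom.assoc X Z Y)) (Hom.ten (Hom.beta X Z) (Hom.id Y))))
  | symmetry (X Y) : Rel (Hom.comp (Hom.beta X Y) (Hom.beta Y X)) (Hom.id (Obj.ten X Y))
  | inj_id (a : A) : Rel (Hom.inj (𝟙 a)) (Hom.id (Obj.inj a))
  | inj_comp {a b c : A} (f : a ⟶ b) (g : b ⟶ c) : Rel (Hom.inj (f ≫ g)) (Hom.comp (Hom.inj f) (Hom.inj g))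
  | mu_nat {a a' b b' : A} (f : a ⟶ a') (g : b ⟶ b') :
      Rel (Hom.comp (Hom.ten (Hom.inj f) (Hom.inj g)) (Hom.mu a' b')) (Hom.comp (Hom.mu a b) (Hom.inj (f ⊗ₘ g)))
  | mu_assoc (a b c : A) :
      Rel (Hom.comp (Hom.ten (Hom.mu a b) (Hom.id (Obj.inj c)))
          (Hom.comp (Hom.mu (a ⊗ b) c) (Hom.inj (α_ a b c).hom)))
        (Hom.comp (Hom.assoc (Obj.inj a) (Obj.inj b) (Obj.inj c))
          (Hom.comp (Hom.ten (Hom.id (Obj.inj a)) (Hom.mu b c)) (Hom.mu a (b ⊗ c))))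
  | mu_lam (a : A) :
      Rel (Hom.lam (Obj.inj a)) (Hom.comp (Hom.ten Hom.eps (Hom.id (Obj.inj a)))
        (Hom.comp (Hom.mu (𝟙_ A) a) (Hom.inj (λ_ a).hom)))
  | mu_rho (a : A) :
      Rel (Hom.rho (Obj.inj a)) (Hom.comp (Hom.ten (Hom.id (Obj.inj a)) Hom.eps)
        (Hom.comp (Hom.mu a (𝟙_ A)) (Hom.inj (ρ_ a).hom)))
  | mu_beta (a b : A) :
      Rel (Hom.comp (Hom.mu a b) (Hom.inj (β_ a b).hom))
        (Hom.comp (Hom.beta (Obj.inj a) (Obj.inj b)) (Hom.mu b a))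

instance setoid (X Y : Obj A) : Setoid (Hom X Y) where
  r := Rel
  iseqv := ⟨Rel.refl, fun h => h.symm, fun h h' => h.trans h'⟩

instance category : Category.{max u v} (Obj A) where
  Hom X Y := Quotient (setoid X Y)
  id X := Quotient.mk _ (Hom.id X)
  comp {X Y Z} := Quotient.map₂ Hom.comp fun _ _ hf _ _ hg => Rel.comp hf hg
  id_comp := by rintro X Y ⟨f⟩; exact Quotient.sound (Rel.id_comp f)
  comp_id := by rintro X Y ⟨f⟩; exact Quotient.sound (Rel.comp_id f)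
  assoc := by rintro W X Y Z ⟨f⟩ ⟨g⟩ ⟨h⟩; exact Quotient.sound (Rel.assoc f g h)

/-- The class of a formal morphism. -/
abbrev cls {X Y : Obj A} (f : Hom X Y) : X ⟶ Y := Quotient.mk _ f

/-- A formal morphism as an isomorphism. -/
def isoCls {X Y : Obj A} (f : Hom X Y) : X ≅ Y where
  hom := cls f
  inv := cls (Hom.inv f)
  hom_inv_id := Quotient.sound (Rel.comp_inv f)
  inv_hom_id := Quotient.sound (Rel.inv_comp f)

instance : IsGroupoid (Obj A) where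
  all_isIso f := by
    obtain ⟨f⟩ := f
    exact (isoCls f).isIso_hom

/-- The tensor product of morphisms. -/
def tenHom {X X' Y Y' : Obj A} (f : X ⟶ X') (g : Y ⟶ Y') : Obj.ten X Y ⟶ Obj.ten X' Y' :=
  Quotient.map₂ Hom.ten (fun _ _ hf _ _ hg => Rel.ten hf hg) f g

instance monoidalStruct : MonoidalCategoryStruct (Obj A) where
  tensorObj := Obj.ten
  whiskerLeft X _ _ f := tenHom (𝟙 X) f
  whiskerRight f Y := tenHom f (𝟙 Y)
  tensorHom f g := tenHom f g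
  tensorUnit := Obj.one
  associator X Y Z := isoCls (Hom.assoc X Y Z)
  leftUnitor X := isoCls (Hom.lam X)
  rightUnitor X := isoCls (Hom.rho X)

instance monoidal : MonoidalCategory (Obj A) :=
  MonoidalCategory.ofTensorHom
    (id_tensorHom_id := fun X Y => Quotient.sound (Rel.ten_id X Y))
    (id_tensorHom := fun X Y₁ Y₂ f => rfl)
    (tensorHom_id := fun f Y => rfl)
    (tensorHom_comp_tensorHom := by rintro _ _ _ _ _ _ ⟨f⟩ ⟨g⟩ ⟨h⟩ ⟨k⟩; exact Quotient.sound (Rel.ten_comp f g h k))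
    (associator_naturality := by rintro _ _ _ _ _ _ ⟨f⟩ ⟨g⟩ ⟨h⟩; exact Quotient.sound (Rel.assoc_nat f g h))
    (leftUnitor_naturality := by rintro _ _ ⟨f⟩; exact Quotient.sound (Rel.lam_nat f))
    (rightUnitor_naturality := by rintro _ _ ⟨f⟩; exact Quotient.sound (Rel.rho_nat f))
    (pentagon := fun W X Y Z => Quotient.sound (Rel.pentagon W X Y Z))
    (triangle := fun X Y => Quotient.sound (Rel.triangle X Y))

instance braided : BraidedCategory (Obj A) where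
  braiding X Y := isoCls (Hom.beta X Y)
  braiding_naturality_right X _ _ f := by
    obtain ⟨f⟩ := f
    exact Quotient.sound (Rel.beta_nat (Hom.id X) f)
  braiding_naturality_left f Z := by
    obtain ⟨f⟩ := f
    exact Quotient.sound (Rel.beta_nat f (Hom.id Z))
  hexagon_forward X Y Z := Quotient.sound (Rel.hexagon_forward X Y Z)
  hexagon_reverse X Y Z := Quotient.sound (Rel.hexagon_reverse X Y Z)

instance symmetric : SymmetricCategory (Obj A) where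
  symmetry X Y := Quotient.sound (Rel.symmetry X Y)

/-- The inclusion. -/
def incl : A ⥤ Obj A where
  obj := Obj.inj
  map f := cls (Hom.inj f)
  map_id a := Quotient.sound (Rel.inj_id a)
  map_comp f g := Quotient.sound (Rel.inj_comp f g)

instance inclLaxBraided : (incl (A := A)).LaxBraided where
  ε := cls Hom.eps
  μ a b := cls (Hom.mu a b)
  μ_natural_left {a b} f c := by
    refine (congrArg (fun k => tenHom (cls (Hom.inj f)) k ≫ cls (Hom.mu b c))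
      (incl.map_id c).symm).trans (Eq.trans (Quotient.sound (Rel.mu_nat f (𝟙 c))) ?_)
    exact congrArg (fun k => cls (Hom.mu a c) ≫ incl.map k) (tensorHom_id f c)
  μ_natural_right {a b} c f := by
    refine (congrArg (fun k => tenHom k (cls (Hom.inj f)) ≫ cls (Hom.mu c b))
      (incl.map_id c).symm).trans (Eq.trans (Quotient.sound (Rel.mu_nat (𝟙 c) f)) ?_)
    exact congrArg (fun k => cls (Hom.mu c a) ≫ incl.map k) (id_tensorHom c f)
  associativity a b c := Quotient.sound (Rel.mu_assoc a b c)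
  left_unitality a := Quotient.sound (Rel.mu_lam a)
  right_unitality a := Quotient.sound (Rel.mu_rho a)
  braided a b := Quotient.sound (Rel.mu_beta a b)

section Invertible

variable {C : Type u'} [Category.{v'} C] [MonoidalCategory C]

theorem tensorLeft_isEquivalence {X Y : C} (e : Y ⊗ X ≅ 𝟙_ C) (e' : X ⊗ Y ≅ 𝟙_ C) :
    (tensorLeft X).IsEquivalence :=
  (CategoryTheory.Equivalence.mk (tensorLeft X) (tensorLeft Y)
    ((leftUnitorNatIso C).symm ≪≫ (tensoringLeft C).mapIso e.symm ≪≫ tensorLeftTensor Y X)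
    ((tensorLeftTensor X Y).symm ≪≫ (tensoringLeft C).mapIso e' ≪≫ leftUnitorNatIso C)).isEquivalence_functor

theorem tensorRight_isEquivalence [BraidedCategory C] {X : C} (h : (tensorLeft X).IsEquivalence) :
    (tensorRight X).IsEquivalence :=
  Functor.isEquivalence_of_iso (NatIso.ofComponents (fun Y => β_ X Y) : tensorLeft X ≅ tensorRight X)

end Invertible

theorem tensor_isEquivalence (X : Obj A) :
    (tensorLeft X).IsEquivalence ∧ (tensorRight X).IsEquivalence := by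
  have h := tensorLeft_isEquivalence (C := Obj A) (X := X) (Y := Obj.dual X) (isoCls (Hom.ev X))
    (β_ X (Obj.dual X) ≪≫ isoCls (Hom.ev X))
  exact ⟨h, tensorRight_isEquivalence h⟩

open Functor.LaxMonoidal

variable {P : Type u'} [Category.{v'} P] [MonoidalCategory P] [SymmetricCategory P] [IsGroupoid P]
  (hP : ∀ X : P, (tensorLeft X).IsEquivalence ∧ (tensorRight X).IsEquivalence)

section Interp

variable (Φ : A ⥤ P) [Φ.LaxBraided]

/-- A chosen dual in `P`. -/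
noncomputable def dualP (X : P) : P :=
  haveI := (hP X).2
  (tensorRight X).objPreimage (𝟙_ P)

/-- A chosen evaluation in `P`. -/
noncomputable def evP (X : P) : dualP hP X ⊗ X ≅ 𝟙_ P :=
  haveI := (hP X).2
  (tensorRight X).objObjPreimageIso (𝟙_ P)

/-- Interpretation of objects. -/
noncomputable def io : Obj A → P
  | .inj a => Φ.obj a
  | .one => 𝟙_ P
  | .ten X Y => io X ⊗ io Y
  | .dual X => dualP hP (io X)

/-- Interpretation of formal morphisms. -/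
noncomputable def ih : ∀ {X Y : Obj A}, Hom X Y → (io hP Φ X ⟶ io hP Φ Y)
  | _, _, .id X => 𝟙 _
  | _, _, .comp f g => ih f ≫ ih g
  | _, _, .inv f => CategoryTheory.inv (ih f)
  | _, _, .ten f g => ih f ⊗ₘ ih g
  | _, _, .assoc X Y Z => (α_ (io hP Φ X) (io hP Φ Y) (io hP Φ Z)).hom
  | _, _, .lam X => (λ_ (io hP Φ X)).hom
  | _, _, .rho X => (ρ_ (io hP Φ X)).hom
  | _, _, .beta X Y => (β_ (io hP Φ X) (io hP Φ Y)).hom
  | _, _, .inj f => Φ.map f
  | _, _, .mu a b => μ Φ a b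
  | _, _, .eps => ε Φ
  | _, _, .ev X => (evP hP (io hP Φ X)).hom

theorem ih_sound {X Y : Obj A} {f g : Hom X Y} (h : Rel f g) : ih hP Φ f = ih hP Φ g := by
  induction h with
  | refl f => rfl
  | symm _ e => exact e.symm
  | trans _ _ e e' => exact e.trans e'
  | comp _ _ e e' => simp only [ih, e, e']
  | inv _ e => simp only [ih, e]
  | ten _ _ e e' => simp only [ih, e, e']
  | id_comp f => simp [ih]
  | comp_id f => simp [ih]
  | assoc f g h => simp [ih]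
  | comp_inv f => simp [ih]
  | inv_comp f => simp [ih]
  | ten_id X Y => simp [ih, io]
  | ten_comp f g f' g' => simp [ih, io]
  | assoc_nat f g h => exact associator_naturality _ _ _
  | lam_nat f => simp [ih, io, id_tensorHom]
  | rho_nat f => simp [ih, io, tensorHom_id]
  | beta_nat f g => exact BraidedCategory.braiding_naturality _ _
  | pentagon W X Y Z =>
    simp only [ih, tensorHom_id, id_tensorHom]
    exact MonoidalCategory.pentagon _ _ _ _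
  | triangle X Y =>
    simp only [ih, tensorHom_id, id_tensorHom]
    exact MonoidalCategory.triangle _ _
  | hexagon_forward X Y Z =>
    simp only [ih, tensorHom_id, id_tensorHom]
    exact BraidedCategory.hexagon_forward _ _ _
  | hexagon_reverse X Y Z =>
    simp only [ih, tensorHom_id, id_tensorHom, IsIso.Iso.inv_hom]
    exact BraidedCategory.hexagon_reverse _ _ _
  | symmetry X Y => exact SymmetricCategory.symmetry _ _
  | inj_id a => exact Φ.map_id a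
  | inj_comp f g => exact Φ.map_comp f g
  | mu_nat f g => exact μ_natural Φ f g
  | mu_assoc a b c =>
    simp only [ih, tensorHom_id, id_tensorHom]
    exact associativity Φ a b c
  | mu_lam a =>
    simp only [ih, tensorHom_id]
    exact left_unitality Φ a
  | mu_rho a =>
    simp only [ih, id_tensorHom]
    exact right_unitality Φ a
  | mu_beta a b => exact Functor.LaxBraided.braided a b

/-- The extension of `Φ`. -/
noncomputable def extend : Obj A ⥤ P where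
  obj := io hP Φ
  map {X Y} := Quotient.lift (ih hP Φ) fun _ _ h => ih_sound hP Φ h
  map_id X := rfl
  map_comp := by rintro X Y Z ⟨f⟩ ⟨g⟩; rfl

noncomputable instance extendLaxBraided : (extend hP Φ).LaxBraided where
  ε := 𝟙 (𝟙_ P)
  μ X Y := 𝟙 (io hP Φ X ⊗ io hP Φ Y)
  μ_natural_left := by
    rintro X Y ⟨f⟩ Z
    refine (Category.comp_id _).trans (Eq.trans ?_ (Category.id_comp _).symm)
    exact (tensorHom_id (ih hP Φ f) (io hP Φ Z)).symm
  μ_natural_right := by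
    rintro X Y Z ⟨f⟩
    refine (Category.comp_id _).trans (Eq.trans ?_ (Category.id_comp _).symm)
    exact (id_tensorHom (io hP Φ Z) (ih hP Φ f)).symm
  associativity X Y Z := by
    show 𝟙 (io hP Φ X ⊗ io hP Φ Y) ▷ io hP Φ Z ≫ 𝟙 ((io hP Φ X ⊗ io hP Φ Y) ⊗ io hP Φ Z) ≫
        (α_ (io hP Φ X) (io hP Φ Y) (io hP Φ Z)).hom =
      (α_ (io hP Φ X) (io hP Φ Y) (io hP Φ Z)).hom ≫ io hP Φ X ◁ 𝟙 (io hP Φ Y ⊗ io hP Φ Z) ≫
        𝟙 (io hP Φ X ⊗ io hP Φ Y ⊗ io hP Φ Z)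
    simp
  left_unitality X := by
    show (λ_ (io hP Φ X)).hom = 𝟙 (𝟙_ P) ▷ io hP Φ X ≫ 𝟙 (𝟙_ P ⊗ io hP Φ X) ≫ (λ_ (io hP Φ X)).hom
    simp
  right_unitality X := by
    show (ρ_ (io hP Φ X)).hom = io hP Φ X ◁ 𝟙 (𝟙_ P) ≫ 𝟙 (io hP Φ X ⊗ 𝟙_ P) ≫ (ρ_ (io hP Φ X)).hom
    simp
  braided X Y := (Category.id_comp _).trans (Category.comp_id _).symm

/-- The extension restricts to `Φ`. -/
noncomputable def extendIso : incl ⋙ extend hP Φ ≅ Φ :=
  NatIso.ofComponents (fun a => Iso.refl _) fun f => (Category.comp_id _).trans (Category.id_comp _).symm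

theorem extendIso_isMonoidal : NatTrans.IsMonoidal (extendIso hP Φ).hom where
  unit := by
    show (𝟙 (𝟙_ P) ≫ ε Φ) ≫ 𝟙 _ = ε Φ
    simp
  tensor a b := by
    show (𝟙 (Φ.obj a ⊗ Φ.obj b) ≫ μ Φ a b) ≫ 𝟙 _ = (𝟙 (Φ.obj a) ⊗ₘ 𝟙 (Φ.obj b)) ≫ μ Φ a b
    simp

end Interp

section Trans

variable (Ψ Ψ' : Obj A ⥤ P) [Ψ.LaxBraided] [Ψ'.LaxBraided] (τ : incl ⋙ Ψ ⟶ incl ⋙ Ψ')

/-- The component at an object of the extended transformation. -/
noncomputable def comp : ∀ X : Obj A, Ψ.obj X ⟶ Ψ'.obj X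
  | .inj a => τ.app a
  | .one => CategoryTheory.inv (ε Ψ) ≫ ε Ψ'
  | .ten X Y => CategoryTheory.inv (μ Ψ X Y) ≫ (comp X ⊗ₘ comp Y) ≫ μ Ψ' X Y
  | .dual X =>
    haveI := (hP (Ψ.obj X)).2
    (tensorRight (Ψ.obj X)).preimage ((μ Ψ (Obj.dual X) X ≫ Ψ.map (cls (Hom.ev X)) ≫
      (CategoryTheory.inv (ε Ψ) ≫ ε Ψ') ≫
      CategoryTheory.inv (μ Ψ' (Obj.dual X) X ≫ Ψ'.map (cls (Hom.ev X))) ≫
      CategoryTheory.inv (Ψ'.obj (Obj.dual X) ◁ comp X) :
        Ψ.obj (Obj.dual X) ⊗ Ψ.obj X ⟶ Ψ'.obj (Obj.dual X) ⊗ Ψ.obj X))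

theorem comp_ten (X Y : Obj A) : μ Ψ X Y ≫ comp hP Ψ Ψ' τ (X ⊗ Y) =
    (comp hP Ψ Ψ' τ X ⊗ₘ comp hP Ψ Ψ' τ Y) ≫ μ Ψ' X Y :=
  IsIso.hom_inv_id_assoc _ _

theorem comp_one : ε Ψ ≫ comp hP Ψ Ψ' τ (𝟙_ (Obj A)) = ε Ψ' :=
  IsIso.hom_inv_id_assoc _ _

theorem comp_dual (X : Obj A) : comp hP Ψ Ψ' τ (Obj.dual X) ▷ Ψ.obj X =
    μ Ψ (Obj.dual X) X ≫ Ψ.map (cls (Hom.ev X)) ≫ (CategoryTheory.inv (ε Ψ) ≫ ε Ψ') ≫
      CategoryTheory.inv (μ Ψ' (Obj.dual X) X ≫ Ψ'.map (cls (Hom.ev X))) ≫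
      CategoryTheory.inv (Ψ'.obj (Obj.dual X) ◁ comp hP Ψ Ψ' τ X) := by
  haveI := (hP (Ψ.obj X)).2
  exact (tensorRight (Ψ.obj X)).map_preimage _

theorem comp_ten' (X Y : Obj A) : μ Ψ X Y ≫ comp hP Ψ Ψ' τ (Obj.ten X Y) =
    (comp hP Ψ Ψ' τ X ⊗ₘ comp hP Ψ Ψ' τ Y) ≫ μ Ψ' X Y :=
  comp_ten hP Ψ Ψ' τ X Y

variable [NatTrans.IsMonoidal τ]

theorem comp_natural {X Y : Obj A} (h : Hom X Y) :
    Ψ.map (cls h) ≫ comp hP Ψ Ψ' τ Y = comp hP Ψ Ψ' τ X ≫ Ψ'.map (cls h) := by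
  induction h with
  | id X =>
    rw [show cls (Hom.id X) = 𝟙 X from rfl, Ψ.map_id, Ψ'.map_id, Category.id_comp, Category.comp_id]
  | comp f g hf hg =>
    rw [show cls (Hom.comp f g) = cls f ≫ cls g from rfl, Ψ.map_comp, Ψ'.map_comp, Category.assoc, hg,
      ← Category.assoc, hf, Category.assoc]
  | @inv X Y f hf =>
    have e : cls (Hom.inv f) = CategoryTheory.inv (cls f) :=
      IsIso.eq_inv_of_hom_inv_id (Quotient.sound (Rel.comp_inv f))
    rw [e, Functor.map_inv, Functor.map_inv, IsIso.inv_comp_eq, ← Category.assoc, hf, Category.assoc,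
      IsIso.hom_inv_id, Category.comp_id]
  | @ten X X' Y Y' f g hf hg =>
    rw [show cls (Hom.ten f g) = cls f ⊗ₘ cls g from rfl, ← cancel_epi (μ Ψ X Y)]
    have h1 := comp_ten' hP Ψ Ψ' τ X Y
    have h2 := comp_ten' hP Ψ Ψ' τ X' Y'
    rw [← μ_natural_assoc, h2, reassoc_of% h1, ← μ_natural, tensorHom_comp_tensorHom_assoc,
      tensorHom_comp_tensorHom_assoc, hf, hg]
  | assoc X Y Z =>
    rw [show cls (Hom.assoc X Y Z) = (α_ X Y Z).hom from rfl, ← cancel_epi (μ Ψ (X ⊗ Y) Z),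
      ← cancel_epi (μ Ψ X Y ▷ Ψ.obj Z)]
    have lhs : μ Ψ X Y ▷ Ψ.obj Z ≫ μ Ψ (X ⊗ Y) Z ≫ Ψ.map (α_ X Y Z).hom ≫ comp hP Ψ Ψ' τ (X ⊗ (Y ⊗ Z)) =
        (α_ _ _ _).hom ≫ (comp hP Ψ Ψ' τ X ⊗ₘ (comp hP Ψ Ψ' τ Y ⊗ₘ comp hP Ψ Ψ' τ Z)) ≫
          Ψ'.obj X ◁ μ Ψ' Y Z ≫ μ Ψ' X (Y ⊗ Z) := by
      rw [associativity_assoc, comp_ten, ← id_tensorHom, tensorHom_comp_tensorHom_assoc, comp_ten,
        ← id_tensorHom, tensorHom_comp_tensorHom_assoc, Category.id_comp, Category.comp_id]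
    have rhs : μ Ψ X Y ▷ Ψ.obj Z ≫ μ Ψ (X ⊗ Y) Z ≫ comp hP Ψ Ψ' τ ((X ⊗ Y) ⊗ Z) ≫ Ψ'.map (α_ X Y Z).hom =
        ((comp hP Ψ Ψ' τ X ⊗ₘ comp hP Ψ Ψ' τ Y) ⊗ₘ comp hP Ψ Ψ' τ Z) ≫
          μ Ψ' X Y ▷ Ψ'.obj Z ≫ μ Ψ' (X ⊗ Y) Z ≫ Ψ'.map (α_ X Y Z).hom := by
      rw [reassoc_of% (comp_ten hP Ψ Ψ' τ (X ⊗ Y) Z), ← tensorHom_id, tensorHom_comp_tensorHom_assoc, comp_ten,
        ← tensorHom_id, tensorHom_comp_tensorHom_assoc, Category.id_comp, Category.comp_id]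
    refine lhs.trans (Eq.trans ?_ rhs.symm)
    rw [associativity, associator_naturality_assoc]
  | lam X =>
    rw [show cls (Hom.lam X) = (λ_ X).hom from rfl, ← cancel_epi (μ Ψ (𝟙_ (Obj A)) X),
      ← cancel_epi (ε Ψ ▷ Ψ.obj X)]
    have rhs : ε Ψ ▷ Ψ.obj X ≫ μ Ψ _ X ≫ comp hP Ψ Ψ' τ (𝟙_ (Obj A) ⊗ X) ≫ Ψ'.map (λ_ X).hom =
        (𝟙_ P ◁ comp hP Ψ Ψ' τ X) ≫ ε Ψ' ▷ Ψ'.obj X ≫ μ Ψ' _ X ≫ Ψ'.map (λ_ X).hom := by
      rw [reassoc_of% (comp_ten hP Ψ Ψ' τ (𝟙_ (Obj A)) X), ← tensorHom_id, tensorHom_comp_tensorHom_assoc, comp_one,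
        ← id_tensorHom, ← tensorHom_id, tensorHom_comp_tensorHom_assoc, Category.id_comp, Category.comp_id,
        Category.id_comp]
    refine Eq.trans ?_ rhs.symm
    rw [← left_unitality, ← left_unitality_assoc, leftUnitor_naturality]
  | rho X =>
    rw [show cls (Hom.rho X) = (ρ_ X).hom from rfl, ← cancel_epi (μ Ψ X (𝟙_ (Obj A))),
      ← cancel_epi (Ψ.obj X ◁ ε Ψ)]
    have rhs : Ψ.obj X ◁ ε Ψ ≫ μ Ψ X _ ≫ comp hP Ψ Ψ' τ (X ⊗ 𝟙_ (Obj A)) ≫ Ψ'.map (ρ_ X).hom =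
        (comp hP Ψ Ψ' τ X ▷ 𝟙_ P) ≫ Ψ'.obj X ◁ ε Ψ' ≫ μ Ψ' X _ ≫ Ψ'.map (ρ_ X).hom := by
      rw [reassoc_of% (comp_ten hP Ψ Ψ' τ X (𝟙_ (Obj A))), ← id_tensorHom, tensorHom_comp_tensorHom_assoc, comp_one,
        ← id_tensorHom, ← tensorHom_id, tensorHom_comp_tensorHom_assoc, Category.id_comp, Category.comp_id,
        Category.id_comp]
    refine Eq.trans ?_ rhs.symm
    rw [← right_unitality, ← right_unitality_assoc, rightUnitor_naturality]
  | beta X Y =>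
    rw [show cls (Hom.beta X Y) = (β_ X Y).hom from rfl, ← cancel_epi (μ Ψ X Y),
      Functor.LaxBraided.braided_assoc, comp_ten', reassoc_of% (comp_ten' hP Ψ Ψ' τ X Y),
      Functor.LaxBraided.braided, BraidedCategory.braiding_naturality_assoc]
  | inj f => exact τ.naturality f
  | mu a b =>
    rw [← cancel_epi (μ Ψ (Obj.inj a) (Obj.inj b))]
    have e : (μ Ψ (Obj.inj a) (Obj.inj b) ≫ Ψ.map (cls (Hom.mu a b))) ≫ τ.app (a ⊗ b) =
        (τ.app a ⊗ₘ τ.app b) ≫ μ Ψ' (Obj.inj a) (Obj.inj b) ≫ Ψ'.map (cls (Hom.mu a b)) :=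
      NatTrans.IsMonoidal.tensor (τ := τ) a b
    refine (Category.assoc _ _ _).symm.trans (e.trans ?_)
    rw [← Category.assoc, ← Category.assoc]
    exact congrArg (· ≫ Ψ'.map (cls (Hom.mu a b))) (comp_ten hP Ψ Ψ' τ (Obj.inj a) (Obj.inj b)).symm
  | eps =>
    rw [← cancel_epi (ε Ψ)]
    have e : (ε Ψ ≫ Ψ.map (cls Hom.eps)) ≫ τ.app (𝟙_ A) = ε Ψ' ≫ Ψ'.map (cls Hom.eps) :=
      NatTrans.IsMonoidal.unit (τ := τ)
    refine (Category.assoc _ _ _).symm.trans (e.trans ?_)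
    rw [← Category.assoc]
    exact congrArg (· ≫ Ψ'.map (cls Hom.eps)) (comp_one hP Ψ Ψ' τ).symm
  | ev X =>
    have h := comp_dual hP Ψ Ψ' τ X
    rw [← cancel_mono (Ψ'.obj (Obj.dual X) ◁ comp hP Ψ Ψ' τ X)] at h
    simp only [Category.assoc, IsIso.inv_hom_id, Category.comp_id] at h
    rw [← cancel_mono (μ Ψ' (Obj.dual X) X ≫ Ψ'.map (cls (Hom.ev X)))] at h
    simp only [Category.assoc] at h
    erw [IsIso.inv_hom_id, Category.comp_id] at h
    rw [← cancel_epi (μ Ψ (Obj.dual X) X)]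
    refine h.symm.trans ?_
    rw [reassoc_of% (comp_ten' hP Ψ Ψ' τ (Obj.dual X) X), tensorHom_def, Category.assoc]
    rfl

/-- The extended transformation. -/
noncomputable def extendTrans : Ψ ⟶ Ψ' where
  app := comp hP Ψ Ψ' τ
  naturality X Y f := by
    obtain ⟨f⟩ := f
    exact comp_natural hP Ψ Ψ' τ f

include hP in
theorem existsUnique_trans :
    ∃! θ : Ψ ⟶ Ψ', NatTrans.IsMonoidal θ ∧ Functor.whiskerLeft incl θ = τ := by
  refine ⟨extendTrans hP Ψ Ψ' τ, ⟨⟨comp_one hP Ψ Ψ' τ, comp_ten hP Ψ Ψ' τ⟩, rfl⟩, fun θ hθ => ?_⟩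
  obtain ⟨hmon, hres⟩ := hθ
  ext X
  show θ.app X = comp hP Ψ Ψ' τ X
  induction X with
  | inj a => exact congrArg (fun t => t.app a) hres
  | one =>
    rw [← cancel_epi (ε Ψ)]
    exact (NatTrans.IsMonoidal.unit (τ := θ)).trans (comp_one hP Ψ Ψ' τ).symm
  | ten X Y hX hY =>
    rw [← cancel_epi (μ Ψ X Y)]
    refine ((NatTrans.IsMonoidal.tensor (τ := θ) X Y)).trans ?_
    rw [hX, hY]
    exact (comp_ten hP Ψ Ψ' τ X Y).symm
  | dual X hX =>
    haveI := (hP (Ψ.obj X)).2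
    refine (tensorRight (Ψ.obj X)).map_injective ?_
    show θ.app (Obj.dual X) ▷ Ψ.obj X = comp hP Ψ Ψ' τ (Obj.dual X) ▷ Ψ.obj X
    rw [← cancel_mono (Ψ'.obj (Obj.dual X) ◁ comp hP Ψ Ψ' τ X),
      ← cancel_mono (μ Ψ' (Obj.dual X) X ≫ Ψ'.map (cls (Hom.ev X)))]
    have e1 := NatTrans.IsMonoidal.tensor (τ := θ) (Obj.dual X) X
    have e2 : Ψ.map (cls (Hom.ev X)) ≫ θ.app (𝟙_ (Obj A)) = θ.app (Obj.dual X ⊗ X) ≫ Ψ'.map (cls (Hom.ev X)) :=
      θ.naturality _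
    have e3 : θ.app (𝟙_ (Obj A)) = CategoryTheory.inv (ε Ψ) ≫ ε Ψ' := by
      rw [IsIso.eq_inv_comp]; exact NatTrans.IsMonoidal.unit (τ := θ)
    rw [tensorHom_def, hX] at e1
    rw [comp_dual]
    simp only [Category.assoc, IsIso.inv_hom_id_assoc, IsIso.inv_hom_id, Category.comp_id]
    rw [← reassoc_of% e1, ← e2, e3]
    simp
    erw [IsIso.inv_hom_id, Category.comp_id]
    rfl

end Trans

end Groth.Agent.Pic49
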